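import Groth.Agent.Fano.K239.HonDef
import Groth.Agent.Smoothlim.SmoothLocusBC

/-!
# Morphisms to `QO k r`; the locus of smooth fibres is open

* `existsUnique_toQO` : a morphism `T ⟶ QO k r` is an `r`-tuple of functions on `T` which are units, and whose differences with
  `1` and with each other are units;
* `exists_smooth_locus` : the locus of the smooth fibres of a prestable family is open.
-/

set_option autoImplicit false

universe u

open CategoryTheory CategoryTheory.Limits AlgebraicGeometry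

namespace K15.HonB2

open K390.PnSec Groth.Agent.Fdesc.LocGen Groth.Agent.Dix.ProjProper
open K188.LineDef K188.LinFun K745.ConDef K505.KonDef K239.HonDef

section QO

variable {k : Type u} [Field k] {r : ℕ}

/-- The value of the discriminant is a unit. -/
theorem isUnit_eval₂_disc {A : Type u} [CommRing A] (φ : k →+* A) (b : Fin r → A) (h0 : ∀ i, IsUnit (b i))
    (h1 : ∀ i, IsUnit (b i - 1)) (h : ∀ i j, i ≠ j → IsUnit (b i - b j)) :
    IsUnit (MvPolynomial.eval₂Hom φ b (disc k r)) := by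
  rw [disc, map_mul, map_prod, map_prod]
  refine IsUnit.mul ?_ ?_
  · refine IsUnit.prod_univ_iff.2 fun i => ?_
    rw [map_mul, map_sub, map_one, MvPolynomial.eval₂Hom_X']
    exact (h0 i).mul (h1 i)
  · refine IsUnit.prod_iff.2 fun p hp => ?_
    rw [map_sub, MvPolynomial.eval₂Hom_X', MvPolynomial.eval₂Hom_X']
    exact h _ _ (Finset.mem_filter.1 hp).2

/-- Ring homomorphisms from `QR k r` over `k`. -/
theorem existsUnique_hom {A : Type u} [CommRing A] (φ : k →+* A) (b : Fin r → A) (h0 : ∀ i, IsUnit (b i))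
    (h1 : ∀ i, IsUnit (b i - 1)) (h : ∀ i j, i ≠ j → IsUnit (b i - b j)) :
    ∃! g : QR k r →+* A, g.comp (algebraMap k (QR k r)) = φ ∧ ∀ i, g (xU k r i) = b i := by
  have hu := isUnit_eval₂_disc φ b h0 h1 h
  refine ⟨IsLocalization.Away.lift (disc k r) hu, ⟨?_, fun i => ?_⟩, ?_⟩
  · ext a
    rw [RingHom.comp_apply, IsScalarTower.algebraMap_apply k (MvPolynomial (Fin r) k) (QR k r),
      IsLocalization.Away.lift_eq, MvPolynomial.algebraMap_eq, MvPolynomial.eval₂Hom_C]
  · rw [xU, IsLocalization.Away.lift_eq, MvPolynomial.eval₂Hom_X']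
  · rintro g ⟨hg, hgx⟩
    refine IsLocalization.ringHom_ext (Submonoid.powers (disc k r)) ?_
    refine MvPolynomial.ringHom_ext (fun a => ?_) fun i => ?_
    · rw [RingHom.comp_apply, RingHom.comp_apply, IsLocalization.Away.lift_eq, MvPolynomial.eval₂Hom_C, ← hg,
        RingHom.comp_apply, ← MvPolynomial.algebraMap_eq, ← IsScalarTower.algebraMap_apply]
    · rw [RingHom.comp_apply, RingHom.comp_apply, IsLocalization.Away.lift_eq, MvPolynomial.eval₂Hom_X']
      exact hgx i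

end QO

/-- Node HB3: morphisms to `QO k r`. -/
theorem existsUnique_toQO (k : Type u) [Field k] (r : ℕ) (T : Over (Spec (CommRingCat.of k))) (b : Fin r → Γ(T.left, ⊤))
    (h0 : ∀ i, IsUnit (b i)) (h1 : ∀ i, IsUnit (b i - 1)) (h : ∀ i j, i ≠ j → IsUnit (b i - b j)) :
    ∃! g : T ⟶ QO k r, ∀ i, g.left.appTop (xF k r i) = b i := by
  let φ : CommRingCat.of k ⟶ Γ(T.left, ⊤) := (Scheme.ΓSpecIso (CommRingCat.of k)).inv ≫ T.hom.appTop
  -- the ring homomorphism of a morphism over `k`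
  have hc : ∀ g : T ⟶ QO k r, ((Scheme.ΓSpecIso (CommRingCat.of (QR k r))).inv ≫ g.left.appTop).hom.comp
      (algebraMap k (QR k r)) = φ.hom := by
    intro g
    have h2 : CommRingCat.ofHom (algebraMap k (QR k r)) ≫ (Scheme.ΓSpecIso (CommRingCat.of (QR k r))).inv ≫
        g.left.appTop = φ := by
      rw [Scheme.ΓSpecIso_inv_naturality_assoc, ← Scheme.Hom.comp_appTop]
      change _ ≫ Scheme.Hom.appTop (g.left ≫ (QO k r).hom) = _
      rw [Over.w]
    rw [← h2]
    rfl
  have hb : ∀ (g : T ⟶ QO k r) i, g.left.appTop (xF k r i) =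
      ((Scheme.ΓSpecIso (CommRingCat.of (QR k r))).inv ≫ g.left.appTop).hom (xU k r i) := fun g i => rfl
  obtain ⟨g, ⟨hg1, hg2⟩, hg3⟩ := existsUnique_hom (k := k) (r := r) φ.hom b h0 h1 h
  have hap : (Scheme.ΓSpecIso (CommRingCat.of (QR k r))).inv ≫
      (T.left.toSpecΓ ≫ Spec.map (CommRingCat.ofHom g)).appTop = CommRingCat.ofHom g := by
    rw [Scheme.Hom.comp_appTop, Scheme.toSpecΓ_appTop, Scheme.ΓSpecIso_naturality, Iso.inv_hom_id_assoc]
  have hw : (T.left.toSpecΓ ≫ Spec.map (CommRingCat.ofHom g)) ≫ (QO k r).hom = T.hom := by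
    refine ext_of_isAffine ?_
    rw [← cancel_epi (Scheme.ΓSpecIso (CommRingCat.of k)).inv]
    change _ ≫ Scheme.Hom.appTop (_ ≫ Spec.map (CommRingCat.ofHom (algebraMap k (QR k r)))) = φ
    rw [Scheme.Hom.comp_appTop, ← Scheme.ΓSpecIso_inv_naturality_assoc, hap]
    ext a
    exact congrArg (fun e : k →+* Γ(T.left, ⊤) => e a) hg1
  refine ⟨Over.homMk (T.left.toSpecΓ ≫ Spec.map (CommRingCat.ofHom g)) hw, fun i => ?_, fun g' hg' => ?_⟩
  · rw [hb]
    change ((Scheme.ΓSpecIso (CommRingCat.of (QR k r))).inv ≫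
      (T.left.toSpecΓ ≫ Spec.map (CommRingCat.ofHom g)).appTop).hom (xU k r i) = b i
    rw [hap]
    exact hg2 i
  · have haff : IsAffine (QO k r).left := inferInstanceAs (IsAffine (Spec (CommRingCat.of (QR k r))))
    refine Over.OverMorphism.ext (ext_of_isAffine ?_)
    rw [← cancel_epi (Scheme.ΓSpecIso (CommRingCat.of (QR k r))).inv]
    refine CommRingCat.hom_ext ?_
    change _ = ((Scheme.ΓSpecIso (CommRingCat.of (QR k r))).inv ≫
      (T.left.toSpecΓ ≫ Spec.map (CommRingCat.ofHom g)).appTop).hom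
    rw [hap]
    exact hg3 _ ⟨hc g', fun i => (hb g' i).symm.trans (hg' i)⟩

/-- Node HB4: the locus of smooth fibres of a prestable family is open. -/
theorem exists_smooth_locus {S : Scheme.{u}} {N : ℕ} (Y : CurvSt.PtFamObj S N) (hY : IsPre Y) :
    ∃ W : Y.base.left.Opens, ∀ (Ω : Type u) [Field Ω] [IsAlgClosed Ω] (t : Spec (CommRingCat.of Ω) ⟶ Y.base.left) (Xt : Scheme.{u})
      (i : Xt ⟶ Y.C) (q : Xt ⟶ Spec (CommRingCat.of Ω)), IsPullback i q Y.f t → (Set.range t ⊆ W ↔ Smooth q) := by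
  obtain ⟨h1, h2, h3, -⟩ := hY
  refine ⟨⟨(Y.f '' (Y.f.smoothLocus : Set Y.C)ᶜ)ᶜ, (Y.f.isClosedMap _ Y.f.smoothLocus.isOpen.isClosed_compl).isOpen_compl⟩, ?_⟩
  intro Ω _ _ t Xt i q hP
  have hq : LocallyOfFinitePresentation q := MorphismProperty.of_isPullback hP inferInstance
  rw [← Scheme.Hom.smoothLocus_eq_top_iff]
  have hbc : ∀ x, x ∈ q.smoothLocus ↔ i x ∈ Y.f.smoothLocus := fun x =>
    Groth.Agent.Smoothlim.SmoothLocusBC.mem_smoothLocus_iff_of_isPullback hP x (Or.inl (Flat.stalkMap Y.f (i x)))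
  constructor
  · intro h
    refine eq_top_iff.2 fun x _ => (hbc x).2 ?_
    by_contra hc
    refine h ⟨q x, rfl⟩ ⟨i x, hc, ?_⟩
    rw [← Scheme.Hom.comp_apply, hP.w, Scheme.Hom.comp_apply]
  · rintro h _ ⟨z, rfl⟩ ⟨x, hx, hxz⟩
    obtain ⟨y, hy, -⟩ := Scheme.exists_preimage_of_isPullback hP x z hxz
    refine hx ?_
    rw [← hy]
    exact (hbc y).1 (h ▸ trivial)

end K15.HonB2
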